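import Cfsg.Agent.Lib.Helper39.Weil.Lagr
import Cfsg.Agent.Lib.Helper15.CoprimeCount
import Cfsg.Agent.Lib.Helper15.RelGl1
import Cfsg.Agent.Lib.Helper15.Extraspecial
import Cfsg.Agent.Lib.Helper3.Perm
import Cfsg.Agent.S0888

/-!
# Extending the Heisenberg character
-/

set_option autoImplicit false
set_option linter.unusedSectionVars false

namespace Cfsg.Agent.Lib.Helper39.Weil

open Cfsg Cfsg.Agent.Lib Cfsg.Agent.Lib.Helper15
open scoped ComplexConjugate

variable {F V K : Type*} [Field F] [AddCommGroup V] [Module F V] [Group K]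

open Classical in
/-- the Heisenberg character -/
noncomputable def theta (ψ : AddChar F ℂ) (d : ℕ) (v : V) (a : F) : ℂ :=
  if v = 0 then d * ψ a else 0

theorem theta_zero (ψ : AddChar F ℂ) (d : ℕ) (a : F) : theta ψ d (0 : V) a = d * ψ a := by
  unfold theta
  rw [if_pos rfl]

theorem theta_ne (ψ : AddChar F ℂ) (d : ℕ) {v : V} (hv : v ≠ 0) (a : F) : theta ψ d v a = 0 := by
  unfold theta
  rw [if_neg hv]

/-- irreducible characters extending the Heisenberg character -/
def IsExt (D : SData F V K) (ψ : AddChar F ℂ) (d : ℕ) (η : WG D → ℂ) : Prop :=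
  IsIrrCharacter (WG D) η ∧ ∀ v a, η ⟨v, a, 1⟩ = theta ψ d v a

variable [Fintype F] [Fintype V]

theorem sum_char (D : SData F V K) (hnd : ∀ v, (∀ w, D.B v w = 0) → v = 0) (h2 : (2 : F) ≠ 0)
    {ψ : AddChar F ℂ} (hψ : ψ 1 ≠ 1) {u : V} (hu : u ≠ 0) : ∑ w, ψ (2 * D.B w u) = 0 := by
  obtain ⟨w₀, hw₀⟩ : ∃ w₀, D.B w₀ u ≠ 0 := by
    by_contra hcon
    push Not at hcon
    apply hu
    apply hnd
    intro w
    rw [D.skew, hcon, neg_zero]
  set w₁ := (2 * D.B w₀ u)⁻¹ • w₀ with hw₁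
  have h1 : 2 * D.B w₁ u = 1 := by
    rw [hw₁, map_smul, LinearMap.smul_apply, smul_eq_mul]
    field_simp
  have h3 : ∑ w, ψ (2 * D.B w u) = ψ 1 * ∑ w, ψ (2 * D.B w u) := by
    rw [Finset.mul_sum]
    refine (Equiv.sum_comp (Equiv.addRight w₁) (fun w => ψ (2 * D.B w u))).symm.trans ?_
    apply Finset.sum_congr rfl
    intro w _
    rw [Equiv.coe_addRight, map_add, LinearMap.add_apply, mul_add, h1, add_comm,
      AddChar.map_add_eq_mul]
  have h4 : (1 - ψ 1) * ∑ w, ψ (2 * D.B w u) = 0 := by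
    rw [sub_mul, one_mul, ← h3, sub_self]
  rcases mul_eq_zero.1 h4 with h | h
  · exact absurd (sub_eq_zero.1 h).symm hψ
  · exact h

theorem addChar_mul_conj (ψ : AddChar F ℂ) (a : F) : ψ a * conj (ψ a) = 1 := by
  rw [← AddChar.map_neg_eq_conj, ← AddChar.map_add_eq_mul, add_neg_cancel, AddChar.map_zero_eq_one]

theorem theta_norm (D : SData F V K) [Fintype (WG.pre D ⊥)] (ψ : AddChar F ℂ) {d : ℕ}
    (hd : d * d = Nat.card V) :
    classInner (fun n : WG.pre D ⊥ => theta ψ d n.1.v n.1.a)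
      (fun n : WG.pre D ⊥ => theta ψ d n.1.v n.1.a) = 1 := by
  classical
  unfold classInner
  rw [WG.sum_bot, WG.card_bot, Finset.sum_eq_single 0]
  · simp only [theta_zero, map_mul, Complex.conj_natCast]
    have : ∀ a : F, (d : ℂ) * ψ a * (d * conj (ψ a)) = d * d := by
      intro a
      rw [mul_mul_mul_comm, addChar_mul_conj, mul_one]
    simp_rw [this]
    rw [Finset.sum_const, Finset.card_univ, nsmul_eq_mul, ← hd, Nat.card_eq_fintype_card]
    have h1 : (Fintype.card F : ℂ) ≠ 0 := by exact_mod_cast Fintype.card_ne_zero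
    have h2 : (d : ℂ) ≠ 0 := by
      intro h
      have h0 : d = 0 := by exact_mod_cast h
      rw [h0] at hd
      exact (Nat.card_pos (α := V)).ne hd
    push_cast
    field_simp
  · intro v _ hv
    apply Finset.sum_eq_zero
    intro a _
    change theta ψ d v a * _ = 0
    rw [theta_ne ψ d hv, zero_mul]
  · intro h
    exact absurd (Finset.mem_univ _) h

/-- the stabiliser of a polarisation -/
def lagrSub (D : SData F V K) {L : Submodule F V} (hL : IsLagr D L) : Subgroup (WG D) where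
  carrier := {x | x.v ∈ L}
  mul_mem' := by
    intro x y hx hy
    exact L.add_mem hx (hL.stable _ _ hy)
  one_mem' := L.zero_mem
  inv_mem' := by
    intro x hx
    exact L.neg_mem (hL.stable _ _ hx)

theorem mem_lagrSub {D : SData F V K} {L : Submodule F V} (hL : IsLagr D L) {x : WG D} :
    x ∈ lagrSub D hL ↔ x.v ∈ L := Iff.rfl

/-- its linear character -/
noncomputable def lagrHom (D : SData F V K) {L : Submodule F V} (hL : IsLagr D L)
    (ψ : AddChar F ℂ) : lagrSub D hL →* ℂ where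
  toFun x := ψ x.1.a
  map_one' := AddChar.map_zero_eq_one ψ
  map_mul' := by
    intro x y
    change ψ (x.1.a + y.1.a + D.B x.1.v (D.ρ x.1.k y.1.v)) = _
    rw [hL.iso _ x.2 _ (hL.stable _ _ y.2), add_zero, AddChar.map_add_eq_mul]

/-- the underlying set -/
def lagrEquiv (D : SData F V K) {L : Submodule F V} (hL : IsLagr D L) :
    lagrSub D hL ≃ L × F × K where
  toFun x := (⟨x.1.v, x.2⟩, x.1.a, x.1.k)
  invFun y := ⟨⟨y.1.1, y.2.1, y.2.2⟩, y.1.2⟩
  left_inv _ := rfl
  right_inv _ := rfl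

theorem ext_of_lagr [Finite K] (D : SData F V K) {L : Submodule F V} (hL : IsLagr D L)
    (hnd : ∀ v, (∀ w, D.B v w = 0) → v = 0) (h2 : (2 : F) ≠ 0)
    {ψ : AddChar F ℂ} (hψ : ψ 1 ≠ 1) {d : ℕ} (hd : d * d = Nat.card V) :
    ∃ η, IsExt D ψ d η := by
  classical
  have := Fintype.ofFinite K
  have hLd : Nat.card L = d := by
    have h1 := hL.card_sq hnd
    rw [← hd] at h1
    exact Nat.mul_self_inj.1 h1
  set lam : lagrSub D hL → ℂ := fun x => ψ x.1.a with hlam
  have hlamc : IsCharacter (lagrSub D hL) lam :=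
    irr_char (Helper3.isIrrCharacter_of_hom (lagrHom D hL ψ).toHomUnits)
  set η := indFun (lagrSub D hL) lam with hη
  have hchar : IsCharacter (WG D) η := char_indFun _ hlamc
  have hcardS : Nat.card (lagrSub D hL) = d * (Fintype.card F * Fintype.card K) := by
    rw [Nat.card_congr (lagrEquiv D hL), Nat.card_prod, Nat.card_prod, hLd,
      Nat.card_eq_fintype_card, Nat.card_eq_fintype_card]
  have hd0 : (d : ℂ) ≠ 0 := by
    intro h
    have h0 : d = 0 := by exact_mod_cast h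
    rw [h0] at hd
    exact (Nat.card_pos (α := V)).ne hd
  have hF0 : (Fintype.card F : ℂ) ≠ 0 := by exact_mod_cast Fintype.card_ne_zero
  have hK0 : (Fintype.card K : ℂ) ≠ 0 := by exact_mod_cast Fintype.card_ne_zero
  have hval : ∀ v a, η ⟨v, a, 1⟩ = theta ψ d v a := by
    intro v a
    rw [hη, indFun_apply, ← Equiv.sum_comp (Equiv.inv (WG D))]
    simp only [Equiv.inv_apply, inv_inv]
    simp_rw [WG.conj_bot]
    by_cases hv : v = 0
    · subst hv
      rw [theta_zero]
      have : ∀ x : WG D, extendByZero (lagrSub D hL) lam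
          ⟨D.ρ x.k 0, a + 2 * D.B x.v (D.ρ x.k 0), 1⟩ = ψ a := by
        intro x
        have h0 : (⟨D.ρ x.k 0, a + 2 * D.B x.v (D.ρ x.k 0), 1⟩ : WG D) = ⟨0, a, 1⟩ := by
          simp
        rw [h0, extendByZero_mem _ _ (show (⟨0, a, 1⟩ : WG D) ∈ lagrSub D hL from L.zero_mem)]
      simp_rw [this]
      rw [Finset.sum_const, Finset.card_univ, nsmul_eq_mul, ← Nat.card_eq_fintype_card,
        WG.card_eq, hcardS, ← hd, Nat.card_eq_fintype_card, Nat.card_eq_fintype_card]
      push_cast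
      field_simp
    · rw [theta_ne ψ d hv, WG.sum_eq, Finset.sum_comm]
      apply mul_eq_zero_of_right
      apply Finset.sum_eq_zero
      intro b _
      rw [Finset.sum_comm]
      apply Finset.sum_eq_zero
      intro k _
      simp only
      by_cases hvL : D.ρ k v ∈ L
      · have : ∀ w : V, extendByZero (lagrSub D hL) lam
            ⟨D.ρ k v, a + 2 * D.B w (D.ρ k v), 1⟩ = ψ a * ψ (2 * D.B w (D.ρ k v)) := by
          intro w
          rw [extendByZero_mem _ _ (show (⟨D.ρ k v, a + 2 * D.B w (D.ρ k v), 1⟩ : WG D) ∈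
            lagrSub D hL from hvL), hlam]
          simp only
          rw [AddChar.map_add_eq_mul]
        simp_rw [this]
        rw [← Finset.mul_sum, sum_char D hnd h2 hψ (by rwa [Ne, D.ρ_eq_zero_iff]), mul_zero]
      · apply Finset.sum_eq_zero
        intro w _
        exact extendByZero_not_mem _ _ hvL
  refine ⟨η, ?_, hval⟩
  have := Fintype.ofFinite (WG.pre D ⊥)
  apply irr_of_restrict_irr (WG.pre D ⊥) hchar
  rw [isIrr_iff]
  refine ⟨char_restrict hchar _, ?_⟩
  have e : (fun n : WG.pre D ⊥ => η n) = fun n : WG.pre D ⊥ => theta ψ d n.1.v n.1.a := by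
    funext n
    rw [← hval]
    congr 1
    have h : n.1.k = 1 := Subgroup.mem_bot.1 n.2
    ext
    · rfl
    · rfl
    · exact h
  rw [e]
  exact theta_norm D ψ hd

section main

variable (D : SData F V K) (hnd : ∀ v, (∀ w, D.B v w = 0) → v = 0) (h2 : (2 : F) ≠ 0)
  {ψ : AddChar F ℂ} (hψ : ψ 1 ≠ 1) {d : ℕ} (hd : d * d = Nat.card V)

include hnd h2 hψ hd

theorem ext_of_pGroup (p : ℕ) [Fact p.Prime] [CharP F p] [Finite K] (hK : IsPGroup p K) : ∃ η, IsExt D ψ d η := by
  obtain ⟨L, hL⟩ := exists_lagr D p hK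
  exact ext_of_lagr D hL hnd h2 hψ hd

theorem theta_irr (p : ℕ) [Fact p.Prime] [CharP F p] :
    IsIrrCharacter (WG.pre D ⊥) (fun n => theta ψ d n.1.v n.1.a) := by
  obtain ⟨η, hη, hval⟩ := ext_of_pGroup (D.comp (⊥ : Subgroup K).subtype) hnd h2 hψ hd p
    IsPGroup.of_bot
  have h := irr_comp_equiv (WG.preEquiv D ⊥) hη
  convert h using 1
  funext n
  rw [← hval]
  change _ = η ⟨n.1.v, n.1.a, ⟨n.1.k, n.2⟩⟩
  congr 1
  ext
  · rfl
  · rfl
  · exact (Subgroup.mem_bot.1 n.2).symm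

omit hnd h2 hψ hd [Fintype F] [Fintype V] in
theorem theta_inv (g : WG D) (n : WG.pre D ⊥) :
    theta ψ d (g * n.1 * g⁻¹).v (g * n.1 * g⁻¹).a = theta ψ d n.1.v n.1.a := by
  have h : n.1 = ⟨n.1.v, n.1.a, 1⟩ := by
    ext
    · rfl
    · rfl
    · exact Subgroup.mem_bot.1 n.2
  rw [h, WG.conj_bot]
  simp only
  by_cases hv : n.1.v = 0
  · rw [hv]
    simp
  · rw [theta_ne ψ d hv, theta_ne ψ d (by rwa [Ne, D.ρ_eq_zero_iff])]

omit hnd h2 hψ hd in
theorem card_bot_pow (p : ℕ) [Fact p.Prime] [CharP F p] : ∃ m, Nat.card (WG.pre D ⊥) = p ^ m := by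
  obtain ⟨e, -, he⟩ := FiniteField.card F p
  rw [WG.card_bot, Module.natCard_eq_pow_finrank (K := F) (V := V), Nat.card_eq_fintype_card, he]
  refine ⟨e * Module.finrank F V + e, ?_⟩
  rw [pow_add, pow_mul]

theorem ext_of_coprime (p : ℕ) [Fact p.Prime] [CharP F p] [Finite K] (hK : (Nat.card K).Coprime p) : ∃ η, IsExt D ψ d η := by
  obtain ⟨m, hm⟩ := card_bot_pow D p
  obtain ⟨χ, hχ, hχN⟩ := exists_extension_of_coprime (WG.pre D ⊥) (by
      rw [hm, WG.index_pre, Subgroup.index_bot]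
      exact (Nat.Coprime.pow_right m hK).symm) (theta_irr D hnd h2 hψ hd p)
      (fun g n => theta_inv D g n)
  refine ⟨χ, hχ, ?_⟩
  intro v a
  exact hχN ⟨⟨v, a, 1⟩, Subgroup.mem_bot.2 rfl⟩

theorem ext_all (p : ℕ) [Fact p.Prime] [CharP F p] [Finite K] : ∃ η, IsExt D ψ d η := by
  obtain ⟨χ, hχ, hχN⟩ := Cfsg.Agent.S0888.result (WG.pre D ⊥) _ (theta_irr D hnd h2 hψ hd p)
    (fun g n => theta_inv D g n) (by
      intro ℓ hℓ
      have : Fact ℓ.Prime := ⟨hℓ⟩
      let R : Sylow ℓ K := default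
      obtain ⟨k, hk⟩ := IsPGroup.iff_card.1 R.isPGroup'
      obtain ⟨η, hη, hval⟩ : ∃ η, IsExt (D.comp (R : Subgroup K).subtype) ψ d η := by
        by_cases hℓp : ℓ = p
        · subst hℓp
          exact ext_of_pGroup (D.comp (R : Subgroup K).subtype) hnd h2 hψ hd ℓ R.isPGroup'
        · apply ext_of_coprime (D.comp (R : Subgroup K).subtype) hnd h2 hψ hd p
          rw [hk]
          apply Nat.Coprime.pow_left
          exact (Nat.coprime_primes hℓ Fact.out).2 hℓp
      refine ⟨WG.pre D R, WG.pre_mono bot_le, η ∘ WG.preEquiv D R, ?_, ⟨k, ?_⟩,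
        irr_comp_equiv _ hη, ?_⟩
      · rw [WG.index_pre]
        exact ((Nat.Prime.coprime_iff_not_dvd hℓ).2 R.not_dvd_index).symm
      · rw [WG.relIndex_bot_pre, hk]
      · intro n
        rw [← hval]
        change η ⟨n.1.v, n.1.a, ⟨n.1.k, _⟩⟩ = _
        congr 1
        ext
        · rfl
        · rfl
        · exact Subgroup.mem_bot.1 n.2)
  refine ⟨χ, hχ, ?_⟩
  intro v a
  exact hχN ⟨⟨v, a, 1⟩, Subgroup.mem_bot.2 rfl⟩

end main

end Cfsg.Agent.Lib.Helper39.Weil
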