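import Cfsg.Agent.Lib.Helper39.Weil.Split
import Cfsg.Agent.S0271

/-!
# The Weil characters of the symplectic group
-/

set_option autoImplicit false
set_option linter.unusedSectionVars false

namespace Cfsg.Agent.Lib.Helper39.Weil

open Cfsg Matrix

variable {F : Type*} [Field F] {l : Type*} [Fintype l] [DecidableEq l]

theorem J_alt (v : l ⊕ l → F) : v ⬝ᵥ (J l F *ᵥ v) = 0 := by
  have h1 : ∀ i : l, (J l F *ᵥ v) (Sum.inl i) = - v (Sum.inr i) := by
    intro i
    simp [J, Matrix.mulVec, dotProduct, Fintype.sum_sum_type, Matrix.one_apply]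
  have h2 : ∀ i : l, (J l F *ᵥ v) (Sum.inr i) = v (Sum.inl i) := by
    intro i
    simp [J, Matrix.mulVec, dotProduct, Fintype.sum_sum_type, Matrix.one_apply]
  rw [dotProduct, Fintype.sum_sum_type]
  simp_rw [h1, h2]
  rw [← Finset.sum_add_distrib]
  apply Finset.sum_eq_zero
  intro i _
  ring

/-- the symplectic group acting on its natural module -/
def spData (F : Type*) [Field F] (l : Type*) [Fintype l] [DecidableEq l] :
    SData F (l ⊕ l → F) (symplecticGroup l F) where
  B := LinearMap.mk₂ F (fun v w => v ⬝ᵥ (J l F *ᵥ w))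
    (fun v v' w => add_dotProduct _ _ _)
    (fun c v w => smul_dotProduct _ _ _)
    (fun v w w' => by rw [Matrix.mulVec_add, dotProduct_add])
    (fun c v w => by rw [Matrix.mulVec_smul, dotProduct_smul])
  alt := J_alt
  ρ :=
    { toFun := fun g => Matrix.mulVecLin g.1
      map_one' := Matrix.mulVecLin_one
      map_mul' := fun g h => Matrix.mulVecLin_mul g.1 h.1 }
  inv := by
    intro g v w
    change (g.1 *ᵥ v) ⬝ᵥ (J l F *ᵥ (g.1 *ᵥ w)) = v ⬝ᵥ (J l F *ᵥ w)
    have h := SymplecticGroup.mem_iff'.1 g.2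
    rw [← Matrix.vecMul_transpose, ← Matrix.dotProduct_mulVec, Matrix.mulVec_mulVec,
      Matrix.mulVec_mulVec, h]

theorem spData_B (v w : l ⊕ l → F) : (spData F l).B v w = v ⬝ᵥ (J l F *ᵥ w) := rfl

theorem spData_ρ (g : symplecticGroup l F) (v : l ⊕ l → F) : (spData F l).ρ g v = g.1 *ᵥ v := rfl

theorem spData_nd (v : l ⊕ l → F) (h : ∀ w, (spData F l).B v w = 0) : v = 0 := by
  have h1 : v ᵥ* J l F = 0 := by
    ext i
    have := h (Pi.single i 1)
    rw [spData_B, Matrix.dotProduct_mulVec, dotProduct_single_one] at this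
    exact this
  have h2 : (v ᵥ* J l F) ᵥ* J l F = 0 := by rw [h1, Matrix.zero_vecMul]
  rw [Matrix.vecMul_vecMul, J_squared, Matrix.vecMul_neg, Matrix.vecMul_one, neg_eq_zero] at h2
  exact h2

/-- the central involution -/
def spNeg (F : Type*) [Field F] (l : Type*) [Fintype l] [DecidableEq l] : symplecticGroup l F :=
  ⟨-1, SymplecticGroup.neg_mem (one_mem _)⟩

theorem spNeg_central : spNeg F l ∈ Subgroup.center (symplecticGroup l F) := by
  rw [Subgroup.mem_center_iff]
  intro g
  apply Subtype.ext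
  change g.1 * (-1) = (-1) * g.1
  simp

theorem sp_weil {F : Type*} [Field F] [Fintype F] (n : ℕ) (hn : 1 ≤ n)
    (hodd : Odd (Fintype.card F)) :
    ∃ χ₁ χ₂ : symplecticGroup (Fin n) F → ℂ, IsIrrCharacter (symplecticGroup (Fin n) F) χ₁ ∧
      IsIrrCharacter (symplecticGroup (Fin n) F) χ₂ ∧
      χ₁ 1 = ((Fintype.card F ^ n - 1) / 2 : ℕ) ∧ χ₂ 1 = ((Fintype.card F ^ n + 1) / 2 : ℕ) := by
  classical
  have hp : Fact (ringChar F).Prime := ⟨CharP.char_is_prime F (ringChar F)⟩
  have h2 : (2 : F) ≠ 0 := by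
    apply Ring.two_ne_zero
    intro h
    rw [FiniteField.even_card_iff_char_two] at h
    rw [Nat.odd_iff] at hodd
    omega
  refine exists_weil (spData F (Fin n)) spData_nd h2 (d := Fintype.card F ^ n) ?_ (ringChar F)
    ?_ ?_ (z := spNeg F (Fin n)) spNeg_central ?_ hodd.pow
  · rw [Nat.card_eq_fintype_card, Fintype.card_fun, Fintype.card_sum, Fintype.card_fin, pow_add]
  · intro v w hv hw
    exact Cfsg.Agent.S0271.result n v w hv hw
  · refine ⟨Pi.single (Sum.inl ⟨0, hn⟩) 1, ?_⟩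
    intro h
    have := congrFun h (Sum.inl ⟨0, hn⟩)
    simp at this
  · intro v
    rw [spData_ρ]
    change (-1 : Matrix _ _ F) *ᵥ v = -v
    rw [Matrix.neg_mulVec, Matrix.one_mulVec]

end Cfsg.Agent.Lib.Helper39.Weil
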