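import Cfsg.Agent.Lib.Helper39.Weil.Value

/-!
# The two constituents of the Weil character
-/

set_option autoImplicit false
set_option linter.unusedSectionVars false

namespace Cfsg.Agent.Lib.Helper39.Weil

open Cfsg Cfsg.Agent.Lib Cfsg.Agent.Lib.Helper15 Module
open scoped ComplexConjugate

/-- a character of norm two is the sum of two distinct irreducible characters. -/
theorem norm_two_split {G : Type*} [Group G] [Fintype G] {φ : G → ℂ} (hφ : IsCharacter G φ)
    (h2 : classInner φ φ = 2) :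
    ∃ χ₁ χ₂ : G → ℂ, IsIrrCharacter G χ₁ ∧ IsIrrCharacter G χ₂ ∧ χ₁ ≠ χ₂ ∧ φ = χ₁ + χ₂ := by
  have h0 : φ ≠ 0 := by
    rintro rfl
    rw [classInner_zero_left] at h2
    norm_num at h2
  obtain ⟨χ₁, hχ₁, hne⟩ := exists_constituent hφ h0
  obtain ⟨m, hm⟩ := inner_nat hφ (irr_char hχ₁)
  have hρ := char_sub_irr hφ hχ₁ hne
  obtain ⟨k, hk⟩ := inner_nat hρ hρ
  have hm' : classInner χ₁ φ = m := by
    rw [inner_comm_of_char (irr_char hχ₁) hφ, hm]
  rw [classInner_sub_left, classInner_sub_right, classInner_sub_right, h2, hm, hm',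
    irr_inner_self hχ₁] at hk
  have hkm : k + 2 * m = 3 := by
    have : (k : ℂ) + 2 * m = 3 := by linear_combination -hk
    exact_mod_cast this
  have hm0 : m ≠ 0 := by
    rintro rfl
    apply hne
    rw [hm]; simp
  have hm1 : m = 1 := by omega
  have hk1 : k = 1 := by omega
  subst hm1 hk1
  refine ⟨χ₁, φ - χ₁, hχ₁, ?_, ?_, by abel⟩
  · rw [isIrr_iff]
    refine ⟨hρ, ?_⟩
    rw [classInner_sub_left, classInner_sub_right, classInner_sub_right, h2, hm, hm',
      irr_inner_self hχ₁]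
    norm_num
  · intro h
    have h3 : classInner (φ - χ₁) χ₁ = 0 := by
      rw [classInner_sub_left, hm, irr_inner_self hχ₁]; norm_num
    rw [← h, irr_inner_self hχ₁] at h3
    exact one_ne_zero h3

variable {F V K : Type*} [Field F] [AddCommGroup V] [Module F V] [Group K]

theorem sum_fixed [Finite V] [Fintype K] (D : SData F V K)
    (htr : ∀ v w, v ≠ 0 → w ≠ 0 → ∃ k, D.ρ k v = w) (hV : ∃ v : V, v ≠ 0) :
    ∑ k : K, Nat.card {v : V // D.ρ k v = v} = 2 * Fintype.card K := by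
  classical
  have := Fintype.ofFinite V
  let _ : MulAction K V :=
    { smul := fun k v => D.ρ k v
      one_smul := by
        intro v
        change D.ρ 1 v = v
        rw [map_one, Module.End.one_apply]
      mul_smul := by
        intro k k' v
        change D.ρ (k * k') v = D.ρ k (D.ρ k' v)
        rw [map_mul, Module.End.mul_apply] }
  have hsm : ∀ (k : K) (v : V), k • v = D.ρ k v := fun k v => rfl
  have hB := MulAction.sum_card_fixedBy_eq_card_orbits_mul_card_group K V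
  obtain ⟨v₀, hv₀⟩ := hV
  have h2 : Fintype.card (Quotient (MulAction.orbitRel K V)) = 2 := by
    rw [← Nat.card_eq_fintype_card, Nat.card_eq_two_iff]
    refine ⟨Quotient.mk'' 0, Quotient.mk'' v₀, ?_, ?_⟩
    · intro h
      have h1 := Quotient.exact' h
      obtain ⟨k, hk⟩ := h1
      apply hv₀
      have hk' : D.ρ k v₀ = 0 := hk
      exact (D.ρ_eq_zero_iff k v₀).1 hk'
    · rw [Set.eq_univ_iff_forall]
      intro x
      induction x using Quotient.inductionOn' with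
      | h v =>
        by_cases hv : v = 0
        · left
          rw [hv]
        · right
          apply Quotient.sound'
          obtain ⟨k, hk⟩ := htr v₀ v hv₀ hv
          exact ⟨k, hk⟩
  rw [h2] at hB
  rw [← hB]
  apply Finset.sum_congr rfl
  intro k _
  rw [Nat.card_eq_fintype_card]
  rfl

variable [Fintype F] [Fintype V] [Finite K]

theorem exists_weil (D : SData F V K) (hnd : ∀ v, (∀ w, D.B v w = 0) → v = 0)
    (h2 : (2 : F) ≠ 0) {d : ℕ} (hd : d * d = Nat.card V)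
    (p : ℕ) [Fact p.Prime] [CharP F p]
    (htr : ∀ v w, v ≠ 0 → w ≠ 0 → ∃ k, D.ρ k v = w) (hV : ∃ v : V, v ≠ 0)
    {z : K} (hz : z ∈ Subgroup.center K) (hzρ : ∀ v, D.ρ z v = -v) (hodd : Odd d) :
    ∃ χ₁ χ₂ : K → ℂ, IsIrrCharacter K χ₁ ∧ IsIrrCharacter K χ₂ ∧
      χ₁ 1 = ((d - 1) / 2 : ℕ) ∧ χ₂ 1 = ((d + 1) / 2 : ℕ) := by
  classical
  have := Fintype.ofFinite K
  obtain ⟨ψ, hψ⟩ : ∃ ψ : AddChar F ℂ, ψ 1 ≠ 1 := by
    have hp := AddChar.FiniteField.primitiveChar_to_Complex_isPrimitive F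
    have h1 := hp (one_ne_zero (α := F))
    rw [AddChar.mulShift_one] at h1
    obtain ⟨a, ha⟩ : ∃ a, (AddChar.FiniteField.primitiveChar_to_Complex F) a ≠ 1 := by
      by_contra hcon
      push Not at hcon
      apply h1
      ext x
      rw [hcon x]
      rfl
    refine ⟨(AddChar.FiniteField.primitiveChar_to_Complex F).mulShift a, ?_⟩
    rwa [AddChar.mulShift_apply, mul_one]
  obtain ⟨η, hη⟩ := ext_all D hnd h2 hψ hd p
  set ω : K → ℂ := fun k => η (WG.inr D k) with hω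
  have hωc : IsCharacter K ω := Helper3.IsCharacter.comp_hom (irr_char hη.1) (WG.inr D)
  have hsq : ∀ k, ω k * conj (ω k) = (Nat.card {v : V // D.ρ k v = v} : ℂ) :=
    fun k => hη.norm_sq hnd h2 hψ hd p k
  have hnorm : classInner ω ω = 2 := by
    unfold classInner
    simp_rw [hsq]
    rw [← Nat.cast_sum, sum_fixed D htr hV, Nat.card_eq_fintype_card]
    have : (Fintype.card K : ℂ) ≠ 0 := by exact_mod_cast Fintype.card_ne_zero
    push_cast
    field_simp
  obtain ⟨χ₁, χ₂, hχ₁, hχ₂, -, hsum⟩ := norm_two_split hωc hnorm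
  obtain ⟨d₁, hd₁⟩ := char_one_nat (irr_char hχ₁)
  obtain ⟨d₂, hd₂⟩ := char_one_nat (irr_char hχ₂)
  have hdd : d₁ + d₂ = d := by
    have h1 := congrFun hsum 1
    rw [Pi.add_apply, hd₁, hd₂, hω] at h1
    simp only [map_one] at h1
    rw [hη.one] at h1
    exact_mod_cast h1.symm
  have hn : ∀ {χ : K → ℂ} {e : ℕ}, IsIrrCharacter K χ → χ 1 = e → ‖χ z‖ = e := by
    intro χ e hχ he
    have h1 := irr_central_norm hχ hz
    rw [he, Complex.mul_conj, Complex.normSq_eq_norm_sq] at h1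
    have h3 : ‖χ z‖ ^ 2 = (e : ℝ) ^ 2 := by
      have : ((‖χ z‖ ^ 2 : ℝ) : ℂ) = (((e : ℝ) ^ 2 : ℝ) : ℂ) := by
        rw [h1]; push_cast; ring
      exact_mod_cast this
    exact (pow_left_inj₀ (norm_nonneg _) (Nat.cast_nonneg _) two_ne_zero).1 h3
  have hωz : ‖ω z‖ = 1 := by
    have h1 := hsq z
    have h3 : Nat.card {v : V // D.ρ z v = v} = 1 := by
      rw [Nat.card_eq_one_iff_unique]
      refine ⟨⟨?_⟩, ⟨⟨0, map_zero _⟩⟩⟩
      intro a b
      have h0 : ∀ c : {v : V // D.ρ z v = v}, c.1 = 0 := by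
        intro c
        have h4 := c.2
        rw [hzρ] at h4
        have h5 : (2 : F) • c.1 = 0 := by
          rw [two_smul]
          nth_rewrite 1 [← h4]
          exact neg_add_cancel _
        exact (smul_eq_zero.1 h5).resolve_left h2
      exact Subtype.ext ((h0 a).trans (h0 b).symm)
    rw [h3, Complex.mul_conj, Complex.normSq_eq_norm_sq] at h1
    have h4 : ‖ω z‖ ^ 2 = (1 : ℝ) ^ 2 := by
      have : ((‖ω z‖ ^ 2 : ℝ) : ℂ) = (((1 : ℝ) ^ 2 : ℝ) : ℂ) := by
        rw [h1]; push_cast; ring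
      exact_mod_cast this
    exact (pow_left_inj₀ (norm_nonneg _) zero_le_one two_ne_zero).1 h4
  have hz12 : ω z = χ₁ z + χ₂ z := congrFun hsum z
  have hle1 : d₁ ≤ 1 + d₂ := by
    have h1 : ‖χ₁ z‖ ≤ ‖ω z‖ + ‖χ₂ z‖ := by
      have : χ₁ z = ω z - χ₂ z := by rw [hz12]; ring
      rw [this]
      exact norm_sub_le _ _
    rw [hn hχ₁ hd₁, hn hχ₂ hd₂, hωz] at h1
    exact_mod_cast h1
  have hle2 : d₂ ≤ 1 + d₁ := by
    have h1 : ‖χ₂ z‖ ≤ ‖ω z‖ + ‖χ₁ z‖ := by
      have : χ₂ z = ω z - χ₁ z := by rw [hz12]; ring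
      rw [this]
      exact norm_sub_le _ _
    rw [hn hχ₁ hd₁, hn hχ₂ hd₂, hωz] at h1
    exact_mod_cast h1
  obtain ⟨e, he⟩ := hodd
  by_cases hlt : d₁ ≤ d₂
  · refine ⟨χ₁, χ₂, hχ₁, hχ₂, ?_, ?_⟩
    · rw [hd₁]
      congr 1
      omega
    · rw [hd₂]
      congr 1
      omega
  · refine ⟨χ₂, χ₁, hχ₂, hχ₁, ?_, ?_⟩
    · rw [hd₂]
      congr 1
      omega
    · rw [hd₁]
      congr 1
      omega

end Cfsg.Agent.Lib.Helper39.Weil
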