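import Cfsg.Agent.Lib.Helper39.Weil.Ext
import Cfsg.Agent.S0868

/-!
# The absolute value of the Weil character
-/

set_option autoImplicit false
set_option linter.unusedSectionVars false

namespace Cfsg.Agent.Lib.Helper39.Weil

open Cfsg Cfsg.Agent.Lib Cfsg.Agent.Lib.Helper15 Module
open scoped ComplexConjugate

variable {F V K : Type*} [Field F] [AddCommGroup V] [Module F V] [Group K]
variable [Fintype F] [Fintype V] [Finite K]
variable {D : SData F V K} {ψ : AddChar F ℂ} {d : ℕ} {η : WG D → ℂ}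

theorem IsExt.one (hη : IsExt D ψ d η) : η 1 = d := by
  have := hη.2 0 0
  rw [theta_zero, AddChar.map_zero_eq_one, mul_one] at this
  exact this

theorem IsExt.d_ne (hη : IsExt D ψ d η) : (d : ℂ) ≠ 0 := by
  rw [← hη.one]
  exact irr_one_ne_zero hη.1

theorem IsExt.shift (hη : IsExt D ψ d η) (v : V) (a c : F) (k : K) :
    η ⟨v, a + c, k⟩ = η ⟨v, a, k⟩ * ψ c := by
  have h := irr_mul_central hη.1 ⟨v, a, k⟩ (WG.central (D := D) c)
  have e : (⟨v, a, k⟩ : WG D) * ⟨0, c, 1⟩ = ⟨v, a + c, k⟩ := by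
    ext <;> simp
  rw [e, hη.one, hη.2, theta_zero] at h
  have hd := hη.d_ne
  have : η ⟨v, a + c, k⟩ * d = η ⟨v, a, k⟩ * ψ c * d := by rw [h]; ring
  exact mul_right_cancel₀ hd this

theorem IsExt.vanish (hη : IsExt D ψ d η) (h2 : (2 : F) ≠ 0) (hψ : ψ 1 ≠ 1) {v u : V} (a : F)
    {k : K} (hu : D.ρ k u = u) (huv : D.B u v ≠ 0) : η ⟨v, a, k⟩ = 0 := by
  set u' := (2 * D.B u v)⁻¹ • u with hu'
  have h1 : 2 * D.B u' v = 1 := by
    rw [hu', map_smul, LinearMap.smul_apply, smul_eq_mul]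
    field_simp
  have h3 : D.ρ k u' = u' := by rw [hu', map_smul, hu]
  have e : (⟨u', 0, 1⟩ : WG D) * ⟨v, a, k⟩ * (⟨u', 0, 1⟩ : WG D)⁻¹ = ⟨v, a + 1, k⟩ := by
    ext
    · simp [h3]
    · simp only [WG.mul_a, WG.mul_v, WG.mul_k, WG.inv_a, WG.inv_v, map_one, Module.End.one_apply,
        inv_one, one_mul, map_neg, h3, map_add, LinearMap.add_apply, D.alt]
      rw [← h1, D.skew v u']
      ring
    · simp
  have h4 := irr_cf hη.1 ⟨v, a, k⟩ ⟨u', 0, 1⟩
  rw [e, hη.shift] at h4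
  by_contra hne
  apply hψ
  have : η ⟨v, a, k⟩ * ψ 1 = η ⟨v, a, k⟩ * 1 := by rw [h4, mul_one]
  exact mul_left_cancel₀ hne this

theorem IsExt.translate (hη : IsExt D ψ d η) (w : V) (a : F) (k : K) :
    η ⟨w - D.ρ k w, a, k⟩ = η ⟨0, 0, k⟩ * ψ (a + D.B w (D.ρ k w)) := by
  have e : (⟨w, 0, 1⟩ : WG D) * ⟨0, a + D.B w (D.ρ k w), k⟩ * (⟨w, 0, 1⟩ : WG D)⁻¹
      = ⟨w - D.ρ k w, a, k⟩ := by
    ext
    · simp [sub_eq_add_neg]
    · simp
    · simp
  have h4 := irr_cf hη.1 ⟨0, a + D.B w (D.ρ k w), k⟩ ⟨w, 0, 1⟩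
  rw [e] at h4
  rw [h4]
  have := hη.shift 0 0 (a + D.B w (D.ρ k w)) k
  rwa [zero_add] at this

omit [Fintype F] [Finite K] in
theorem exists_fixed_of_not_range (hnd : ∀ v, (∀ w, D.B v w = 0) → v = 0) (k : K) {v : V}
    (hv : v ∉ LinearMap.range (LinearMap.id - D.ρ k)) : ∃ u, D.ρ k u = u ∧ D.B u v ≠ 0 := by
  have : FiniteDimensional F V := Module.Finite.of_finite
  obtain ⟨f, hfv, hf⟩ := Submodule.exists_le_ker_of_notMem hv
  have hinj : Function.Injective D.B := by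
    rw [← LinearMap.ker_eq_bot, LinearMap.ker_eq_bot']
    intro x hx
    apply hnd
    intro w
    rw [hx]; rfl
  have hsurj : Function.Surjective D.B :=
    (LinearMap.injective_iff_surjective_of_finrank_eq_finrank
      (Subspace.dual_finrank_eq (K := F) (V := V)).symm).1 hinj
  obtain ⟨u, rfl⟩ := hsurj f
  refine ⟨u, ?_, hfv⟩
  have h1 : ∀ w, D.B u w = D.B u (D.ρ k w) := by
    intro w
    have : (LinearMap.id - D.ρ k : V →ₗ[F] V) w ∈ LinearMap.ker (D.B u) := hf ⟨w, rfl⟩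
    rw [LinearMap.mem_ker, LinearMap.sub_apply, LinearMap.id_apply, map_sub, sub_eq_zero] at this
    exact this
  have h3 : u - D.ρ k⁻¹ u = 0 := by
    apply hnd
    intro w
    rw [map_sub, LinearMap.sub_apply, h1 w, sub_eq_zero]
    conv_lhs => rw [← D.ρ_apply_inv k u]
    rw [D.inv]
  have h4 : u = D.ρ k⁻¹ u := sub_eq_zero.1 h3
  conv_lhs => rw [h4]
  exact D.ρ_apply_inv k u

theorem IsExt.norm_sq (hη : IsExt D ψ d η) (hnd : ∀ v, (∀ w, D.B v w = 0) → v = 0)
    (h2 : (2 : F) ≠ 0) (hψ : ψ 1 ≠ 1) (hd : d * d = Nat.card V)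
    (p : ℕ) [Fact p.Prime] [CharP F p] (k : K) :
    η ⟨0, 0, k⟩ * conj (η ⟨0, 0, k⟩) = (Nat.card {v : V // D.ρ k v = v} : ℂ) := by
  classical
  have : FiniteDimensional F V := Module.Finite.of_finite
  have := Fintype.ofFinite K
  have := Fintype.ofFinite (WG.pre D ⊥)
  have hres : (fun n : WG.pre D ⊥ => η n) = fun n : WG.pre D ⊥ => theta ψ d n.1.v n.1.a := by
    funext n
    rw [← hη.2]
    congr 1
    have h : n.1.k = 1 := Subgroup.mem_bot.1 n.2
    ext
    · rfl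
    · rfl
    · exact h
  have h1 := (Cfsg.Agent.S0868.result (WG.pre D ⊥) η hη.1 (by
    rw [hres]; exact theta_irr D hnd h2 hψ hd p) η hη.1 _ rfl).2.2 rfl
  have h3 := congrFun h1 ⟨0, 0, k⟩
  rw [WG.sum_bot, WG.card_bot] at h3
  set c := η ⟨0, 0, k⟩ * conj (η ⟨0, 0, k⟩) with hc
  set T : V →ₗ[F] V := LinearMap.id - D.ρ k with hT
  have hterm : ∀ (v : V) (a : F), η ((⟨v, a, 1⟩ : WG D) * ⟨0, 0, k⟩) *
      conj (η ((⟨v, a, 1⟩ : WG D) * ⟨0, 0, k⟩)) = if v ∈ LinearMap.range T then c else 0 := by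
    intro v a
    have e : (⟨v, a, 1⟩ : WG D) * ⟨0, 0, k⟩ = ⟨v, a, k⟩ := by
      ext <;> simp
    rw [e]
    split_ifs with hv
    · obtain ⟨w, rfl⟩ := hv
      rw [hT, LinearMap.sub_apply, LinearMap.id_apply, hη.translate, map_mul, mul_mul_mul_comm,
        addChar_mul_conj, mul_one]
    · obtain ⟨u, hu, huv⟩ := exists_fixed_of_not_range hnd k hv
      rw [hη.vanish h2 hψ a hu huv, zero_mul]
  simp_rw [hterm] at h3
  simp only [Finset.sum_const, Finset.card_univ, nsmul_eq_mul] at h3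
  rw [← Finset.mul_sum, ← Finset.sum_filter, Finset.sum_const, nsmul_eq_mul] at h3
  have hr : (Finset.univ.filter (fun v => v ∈ LinearMap.range T)).card
      = Nat.card (LinearMap.range T) := by
    rw [Nat.card_eq_fintype_card, Fintype.card_subtype]
  have hk : Nat.card {v : V // D.ρ k v = v} = Nat.card (LinearMap.ker T) := by
    apply Nat.card_congr
    apply Equiv.subtypeEquivRight
    intro v
    rw [LinearMap.mem_ker, hT, LinearMap.sub_apply, LinearMap.id_apply, sub_eq_zero, eq_comm]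
  have hVc : Nat.card V = Nat.card (LinearMap.range T) * Nat.card (LinearMap.ker T) := by
    rw [Module.natCard_eq_pow_finrank (K := F) (V := V),
      Module.natCard_eq_pow_finrank (K := F) (V := LinearMap.range T),
      Module.natCard_eq_pow_finrank (K := F) (V := LinearMap.ker T), ← pow_add,
      LinearMap.finrank_range_add_finrank_ker]
  rw [hr, hVc, Nat.card_eq_fintype_card (α := F)] at h3
  rw [hk]
  have hF0 : (Fintype.card F : ℂ) ≠ 0 := by exact_mod_cast Fintype.card_ne_zero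
  have hr0 : (Nat.card (LinearMap.range T) : ℂ) ≠ 0 := by
    exact_mod_cast (Nat.card_pos (α := LinearMap.range T)).ne'
  have hk0 : (Nat.card (LinearMap.ker T) : ℂ) ≠ 0 := by
    exact_mod_cast (Nat.card_pos (α := LinearMap.ker T)).ne'
  push_cast at h3
  field_simp at h3
  exact h3

end Cfsg.Agent.Lib.Helper39.Weil
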